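import Groth.Agent.Lib.P1Pow11.Product
import Mathlib.CategoryTheory.Limits.Shapes.WidePullbacks

/-!
The finite surjective morphisms `(ℙ¹_S)ⁿ ⟶ ℙⁿ_S`.
-/

set_option autoImplicit false

universe u

open CategoryTheory CategoryTheory.Limits AlgebraicGeometry TopologicalSpace

namespace Groth.Agent.P1Pow11

open Groth.Agent.ProjUP Groth.Agent.Segre

local notation "PS" => CohB1.ProjSpaceOver
local notation "πP" => CohB1.ProjSpaceOver.toBase

instance isIso_toSpec_zero : IsIso (CohB1.ProjSpace.toSpec 0 (ULift.{u} ℤ)) := by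
  let R := ULift.{u} ℤ
  let ψ : MvPolynomial (Fin 1) R →+* Γ(Spec (CommRingCat.of R), ⊤) :=
    MvPolynomial.eval₂Hom (Scheme.ΓSpecIso (CommRingCat.of R)).inv.hom fun _ => 1
  have hψ : ψ (MvPolynomial.X 0) = 1 := by simp [ψ]
  let s : Spec (CommRingCat.of R) ⟶ CohB1.ProjSpace 0 R := chartHom (CohB1.polyGrading 0 R) (xMem R 0 0) ψ hψ
  refine ⟨s, ?_, specULiftZIsTerminal.hom_ext _ _⟩
  refine ext_of_co R (T := Proj (CohB1.polyGrading 0 R)) (specULiftZIsTerminal.hom_ext _ _) fun x => ?_
  have : Subsingleton (Fin (0 + 1)) := inferInstanceAs (Subsingleton (Fin 1))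
  have htop : Proj.basicOpen (CohB1.polyGrading 0 R) (MvPolynomial.X 0) = ⊤ := by
    refine top_le_iff.1 ?_
    rw [← ProjSpace.iSup_basicOpen 0 R]
    exact iSup_le fun i => le_of_eq (by rw [Subsingleton.elim i 0])
  refine ⟨0, ⊤, fun w _ => htop.ge trivial, fun w _ => htop.ge trivial, trivial, fun l => ?_⟩
  obtain rfl : l = 0 := Subsingleton.elim _ _
  exact (ev_self _ _ _ _ _).trans (ev_self _ _ _ _ _).symm

theorem exists_finite_surjective_prod_succ (S : Scheme.{u}) (m : ℕ) :
    ∃ Ψ : pullback (πP 1 S) (πP m S) ⟶ PS (m + 1) S,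
      IsFinite Ψ ∧ Surjective Ψ ∧ Ψ ≫ πP (m + 1) S = pullback.fst _ _ ≫ πP 1 S := by
  obtain ⟨φ, hfin, hsurj⟩ := exists_finite_surjective_mul.{u} m
  let R := ULift.{u} ℤ
  have h1 : IsPullback (pullback.fst _ _ : PS 1 S ⟶ _) (πP 1 S) (CohB1.ProjSpace.toSpec 1 R)
    (specULiftZIsTerminal.from S) := IsPullback.of_hasPullback _ _
  have hm : IsPullback (pullback.fst _ _ : PS m S ⟶ _) (πP m S) (CohB1.ProjSpace.toSpec m R)
    (specULiftZIsTerminal.from S) := IsPullback.of_hasPullback _ _
  let M : pullback (πP 1 S) (πP m S) ⟶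
      pullback (CohB1.ProjSpace.toSpec 1 R) (CohB1.ProjSpace.toSpec m R) :=
    pullback.lift (pullback.fst _ _ ≫ pullback.fst _ _) (pullback.snd _ _ ≫ pullback.fst _ _)
      (specULiftZIsTerminal.hom_ext _ _)
  have hA := (IsPullback.of_hasPullback (πP 1 S) (πP m S)).flip.paste_horiz hm
  have hX := (IsPullback.of_hasPullback (CohB1.ProjSpace.toSpec 1 R) (CohB1.ProjSpace.toSpec m R)).flip
  have hM : M ≫ pullback.snd _ _ = pullback.snd _ _ ≫ pullback.fst _ _ := pullback.lift_snd _ _ _
  have hM' : M ≫ pullback.fst _ _ = pullback.fst _ _ ≫ pullback.fst _ _ := pullback.lift_fst _ _ _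
  have hA' : IsPullback (M ≫ pullback.snd _ _) (pullback.fst (πP 1 S) (πP m S)) (CohB1.ProjSpace.toSpec m R)
      ((pullback.fst _ _ : PS 1 S ⟶ _) ≫ CohB1.ProjSpace.toSpec 1 R) := by
    have e : (pullback.fst _ _ : PS 1 S ⟶ _) ≫ CohB1.ProjSpace.toSpec 1 R = πP 1 S ≫ specULiftZIsTerminal.from S := h1.w
    exact hM.symm ▸ e.symm ▸ hA
  have hleft : IsPullback M (pullback.fst (πP 1 S) (πP m S)) (pullback.fst _ _) (pullback.fst _ _ : PS 1 S ⟶ _) :=
    IsPullback.of_right hA' hM' hX
  have houter := hleft.paste_vert h1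
  rw [show pullback.fst (CohB1.ProjSpace.toSpec 1 R) (CohB1.ProjSpace.toSpec m R) ≫ CohB1.ProjSpace.toSpec 1 R =
    φ ≫ CohB1.ProjSpace.toSpec (m + 1) R from specULiftZIsTerminal.hom_ext _ _] at houter
  have hm1 : IsPullback (pullback.fst _ _ : PS (m + 1) S ⟶ _) (πP (m + 1) S) (CohB1.ProjSpace.toSpec (m + 1) R)
    (specULiftZIsTerminal.from S) := IsPullback.of_hasPullback _ _
  let Ψ : pullback (πP 1 S) (πP m S) ⟶ PS (m + 1) S :=
    hm1.lift (M ≫ φ) (pullback.fst _ _ ≫ πP 1 S) (specULiftZIsTerminal.hom_ext _ _)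
  have hΨ : Ψ ≫ πP (m + 1) S = pullback.fst _ _ ≫ πP 1 S := hm1.lift_snd _ _ _
  rw [← hΨ] at houter
  have hsq : IsPullback M Ψ φ (pullback.fst _ _ : PS (m + 1) S ⟶ _) :=
    IsPullback.of_bot houter (hm1.lift_fst _ _ _).symm hm1
  exact ⟨Ψ, MorphismProperty.of_isPullback hsq hfin, MorphismProperty.of_isPullback hsq hsurj, hΨ⟩

theorem exists_finite_surjective_wide (S : Scheme.{u}) (n : ℕ) :
    ∃ φ : widePullback S (fun _ : Fin n => PS 1 S) (fun _ => πP 1 S) ⟶ PS n S,
      IsFinite φ ∧ Surjective φ ∧ φ ≫ πP n S = WidePullback.base (fun _ => πP 1 S) := by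
  induction n with
  | zero =>
    have : IsIso (πP 0 S) :=
      MorphismProperty.of_isPullback (P := MorphismProperty.isomorphisms Scheme.{u})
        (IsPullback.of_hasPullback (CohB1.ProjSpace.toSpec 0 (ULift.{u} ℤ)) (specULiftZIsTerminal.from S))
        (isIso_toSpec_zero.{u})
    have : IsIso (WidePullback.base (B := S) (objs := fun _ : Fin 0 => PS 1 S) (fun _ => πP 1 S)) := by
      refine ⟨WidePullback.lift (𝟙 S) (fun j => j.elim0) (fun j => j.elim0), ?_, WidePullback.lift_base _ _ _ _⟩
      apply WidePullback.hom_ext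
      · exact fun j => j.elim0
      · rw [Category.assoc, WidePullback.lift_base, Category.comp_id, Category.id_comp]
    refine ⟨WidePullback.base _ ≫ inv (πP 0 S), inferInstance, inferInstance, by simp⟩
  | succ n ih =>
    obtain ⟨φ, hfin, hsurj, hφ⟩ := ih
    obtain ⟨Ψ, hΨfin, hΨsurj, hΨ⟩ := exists_finite_surjective_prod_succ S n
    let W := widePullback S (fun _ : Fin n => PS 1 S) (fun _ => πP 1 S)
    let e : widePullback S (fun _ : Fin (n + 1) => PS 1 S) (fun _ => πP 1 S) ≅
        pullback (πP 1 S) (WidePullback.base (objs := fun _ : Fin n => PS 1 S) (fun _ => πP 1 S)) :=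
      { hom := pullback.lift (WidePullback.π _ 0)
          (WidePullback.lift (WidePullback.base _) (fun j => WidePullback.π _ j.succ) (fun j => WidePullback.π_arrow _ _))
          (by rw [WidePullback.lift_base]; exact WidePullback.π_arrow _ _)
        inv := WidePullback.lift (pullback.fst _ _ ≫ πP 1 S)
          (fun j => Fin.cases (pullback.fst _ _) (fun i => pullback.snd _ _ ≫ WidePullback.π _ i) j)
          (fun j => by
            induction j using Fin.cases with
            | zero => rfl
            | succ i =>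
              simp only [Fin.cases_succ, Category.assoc, WidePullback.π_arrow]
              exact pullback.condition.symm)
        hom_inv_id := by
          apply WidePullback.hom_ext
          · intro j
            rw [Category.assoc, WidePullback.lift_π, Category.id_comp]
            induction j using Fin.cases with
            | zero => exact pullback.lift_fst _ _ _
            | succ i => exact ((pullback.lift_snd_assoc _ _ _ _).trans (WidePullback.lift_π _ _ _ _ _))
          · refine ((Category.assoc _ _ _).trans ((congrArg (_ ≫ ·) (WidePullback.lift_base _ _ _ _)).trans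
              ((pullback.lift_fst_assoc _ _ _ _).trans ((WidePullback.π_arrow _ _).trans (Category.id_comp _).symm))))
        inv_hom_id := by
          apply pullback.hom_ext
          · rw [Category.assoc, pullback.lift_fst, WidePullback.lift_π, Category.id_comp]
            rfl
          · apply WidePullback.hom_ext
            · intro j
              rw [Category.assoc, Category.assoc, pullback.lift_snd_assoc, WidePullback.lift_π, WidePullback.lift_π,
                Category.id_comp]
              rfl
            · rw [Category.assoc, Category.assoc, pullback.lift_snd_assoc, WidePullback.lift_base,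
                WidePullback.lift_base, Category.id_comp]
              exact pullback.condition }
    let ψ : pullback (πP 1 S) (WidePullback.base (objs := fun _ : Fin n => PS 1 S) (fun _ => πP 1 S)) ⟶
        pullback (πP 1 S) (πP n S) :=
      pullback.lift (pullback.fst _ _) (pullback.snd _ _ ≫ φ) (by rw [Category.assoc, hφ]; exact pullback.condition)
    have hbc : IsPullback ψ (pullback.snd _ _) (pullback.snd (πP 1 S) (πP n S)) φ := by
      have h := IsPullback.of_hasPullback (πP 1 S)
        (WidePullback.base (objs := fun _ : Fin n => PS 1 S) (fun _ => πP 1 S))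
      have hfst : ψ ≫ pullback.fst (πP 1 S) (πP n S) = pullback.fst _ _ := pullback.lift_fst _ _ _
      have h' : IsPullback (ψ ≫ pullback.fst (πP 1 S) (πP n S)) (pullback.snd _ _) (πP 1 S) (φ ≫ πP n S) :=
        hfst.symm ▸ hφ.symm ▸ h
      exact IsPullback.of_right h' (pullback.lift_snd _ _ _) (IsPullback.of_hasPullback (πP 1 S) (πP n S))
    have : IsFinite ψ := MorphismProperty.of_isPullback hbc.flip hfin
    have : IsIso e.hom := e.isIso_hom
    have : IsFinite e.hom := IsFinite.iff_isProper_and_isAffineHom.2 ⟨inferInstance, inferInstance⟩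
    have : Surjective e.hom := inferInstance
    have : Surjective ψ := MorphismProperty.of_isPullback hbc.flip hsurj
    refine ⟨e.hom ≫ ψ ≫ Ψ, inferInstance, inferInstance, ?_⟩
    rw [Category.assoc, Category.assoc, hΨ, pullback.lift_fst_assoc, ← Category.assoc]
    exact (congrArg (· ≫ _) (pullback.lift_fst _ _ _)).trans (WidePullback.π_arrow _ _)

end Groth.Agent.P1Pow11
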