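import Mathlib.FieldTheory.IsAlgClosed.Basic
import Mathlib.Algebra.Polynomial.OfFn

/-!
Coefficients of the product of a linear form and a form of degree `m`.
-/

set_option autoImplicit false

universe u

namespace Groth.Agent.P1Pow11

/-- The `j`-th coefficient of `(x 0 + x 1 * t) * ∑ v k * t ^ k`. -/
def prodCoeff {A : Type*} [CommRing A] {m : ℕ} (x : Fin 2 → A) (v : Fin (m + 1) → A) (j : Fin (m + 2)) : A :=
  x 0 * (Fin.snoc v (0 : A) : Fin (m + 2) → A) j + x 1 * (Fin.cons (0 : A) v : Fin (m + 2) → A) j

lemma map_prodCoeff {A B : Type*} [CommRing A] [CommRing B] {m : ℕ} (f : A →+* B) (x : Fin 2 → A)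
    (v : Fin (m + 1) → A) (j : Fin (m + 2)) : f (prodCoeff x v j) = prodCoeff (f ∘ x) (f ∘ v) j := by
  simp only [prodCoeff, map_add, map_mul, Function.comp_apply]
  congr 2
  · induction j using Fin.lastCases <;> simp
  · induction j using Fin.cases <;> simp

lemma prodCoeff_ne_zero {K : Type*} [Field K] {m : ℕ} {x : Fin 2 → K} {v : Fin (m + 1) → K}
    (hx : x ≠ 0) (hv : v ≠ 0) : ∃ j, prodCoeff x v j ≠ 0 := by
  by_contra! h
  apply hv
  funext k
  by_cases hx0 : x 0 = 0
  · have hx1 : x 1 ≠ 0 := fun hx1 => hx (funext fun i => by fin_cases i <;> assumption)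
    have := h k.succ
    simpa [prodCoeff, hx0, hx1] using this
  · induction k using Fin.induction with
    | zero =>
      have := h (Fin.castSucc 0)
      rw [prodCoeff, Fin.snoc_castSucc, Fin.castSucc_zero, Fin.cons_zero] at this
      simpa [hx0] using this
    | succ k ih =>
      have := h (Fin.castSucc k.succ)
      rw [prodCoeff, Fin.snoc_castSucc, ← Fin.succ_castSucc, Fin.cons_succ, ih] at this
      simpa [hx0] using this

open Polynomial in
/-- Over an algebraically closed field every nonzero form splits off a linear factor. -/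
theorem exists_prodCoeff_eq {K : Type*} [Field K] [IsAlgClosed K] {m : ℕ} (c : Fin (m + 2) → K) :
    ∃ (x : Fin 2 → K) (v : Fin (m + 1) → K), prodCoeff x v = c := by
  classical
  by_cases hc : c (Fin.last (m + 1)) = 0
  · refine ⟨![1, 0], Fin.init c, funext fun j => ?_⟩
    induction j using Fin.lastCases <;> simp [prodCoeff, Fin.init, hc]
  · let p : K[X] := ofFn (m + 2) c
    have hcoeff : ∀ j : Fin (m + 2), p.coeff j = c j := fun j => ofFn_coeff_eq_val_of_lt c j.2
    have hne : p.coeff (m + 1) ≠ 0 := by simpa using (hcoeff (Fin.last (m + 1))).trans_ne hc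
    have hdeg : p.natDegree = m + 1 := le_antisymm
      (Nat.lt_succ_iff.1 (ofFn_natDegree_lt (by omega) c)) (le_natDegree_of_ne_zero hne)
    obtain ⟨α, hα⟩ := IsAlgClosed.exists_root p fun h => by
      rw [natDegree_eq_of_degree_eq_some (n := 0) h] at hdeg
      omega
    obtain ⟨q, hq⟩ := dvd_iff_isRoot.2 hα
    have hqdeg : q.coeff (m + 1) = 0 := by
      refine coeff_eq_zero_of_natDegree_lt ?_
      have hq0 : q ≠ 0 := by rintro rfl; simp [hq] at hne
      rw [hq, natDegree_mul (X_sub_C_ne_zero α) hq0, natDegree_X_sub_C] at hdeg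
      omega
    refine ⟨![-α, 1], fun k => q.coeff k, funext fun j => ?_⟩
    rw [← hcoeff j, hq, sub_mul, coeff_sub, coeff_C_mul]
    have hs : (Fin.snoc (fun k : Fin (m + 1) => q.coeff k) (0 : K) : Fin (m + 2) → K) j = q.coeff j := by
      induction j using Fin.lastCases <;> simp [hqdeg]
    have hcs : (Fin.cons (0 : K) (fun k : Fin (m + 1) => q.coeff k) : Fin (m + 2) → K) j = (X * q).coeff j := by
      induction j using Fin.cases <;> simp [coeff_X_mul]
    simp only [prodCoeff, Matrix.cons_val_zero, Matrix.cons_val_one, hs, hcs]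
    ring

end Groth.Agent.P1Pow11
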