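import Groth.Agent.Lib.Segre.Basic

/-!
The linear projection given by linear forms, on the preimage of the open where they do not all vanish.
-/

set_option autoImplicit false

universe u

open CategoryTheory CategoryTheory.Limits AlgebraicGeometry TopologicalSpace

namespace Groth.Agent.P1Pow11

open Groth.Agent.ProjUP Groth.Agent.Segre

variable {R : Type u} [CommRing R] {N n : ℕ} {T : Scheme.{u}}
  {r : T ⟶ Proj (CohB1.polyGrading N R)} {l : Fin (n + 1) → MvPolynomial (Fin (N + 1)) R}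
  {hl : ∀ j, l j ∈ CohB1.polyGrading N R 1}

/-- `φ` is the projection of `r` by the forms `l` on `U`, read in the chart `j`. -/
def IsProjOn (r : T ⟶ Proj (CohB1.polyGrading N R)) (l : Fin (n + 1) → MvPolynomial (Fin (N + 1)) R)
    (hl : ∀ j, l j ∈ CohB1.polyGrading N R 1)
    (φ : T ⟶ Proj (CohB1.polyGrading n R)) (j : Fin (n + 1)) (U : T.Opens) : Prop :=
  ∃ (hU : U ≤ φ ⁻¹ᵁ Proj.basicOpen (CohB1.polyGrading n R) (MvPolynomial.X j))
    (hU' : U ≤ r ⁻¹ᵁ Proj.basicOpen (CohB1.polyGrading N R) (l j)),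
    ∀ i, co R φ j U hU i = ev (CohB1.polyGrading N R) (hl j) r U hU' (l i)

variable {φ : T ⟶ Proj (CohB1.polyGrading n R)} {j : Fin (n + 1)} {U : T.Opens}

lemma IsProjOn.comp {S : Scheme.{u}} (h : IsProjOn r l hl φ j U) (g : S ⟶ T) {V : S.Opens} (hV : V ≤ g ⁻¹ᵁ U) :
    IsProjOn (g ≫ r) l hl (g ≫ φ) j V := by
  obtain ⟨h1, h2, he⟩ := h
  refine ⟨hV.trans (g.preimage_mono h1), hV.trans (g.preimage_mono h2), fun i => ?_⟩
  have := congrArg (g.appLE U V hV) (he i)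
  rwa [ev_comp, ev_comp] at this

lemma IsProjOn.mono (h : IsProjOn r l hl φ j U) {V : T.Opens} (hV : V ≤ U) : IsProjOn r l hl φ j V := by
  have := h.comp (𝟙 T) (V := V) hV
  rwa [Category.id_comp, Category.id_comp] at this

lemma IsProjOn.transfer (h : IsProjOn r l hl φ j U) {j' : Fin (n + 1)}
    (hU : U ≤ r ⁻¹ᵁ Proj.basicOpen (CohB1.polyGrading N R) (l j')) : IsProjOn r l hl φ j' U := by
  obtain ⟨h1, h2, he⟩ := h
  have hu : IsUnit (co R φ j U h1 j') := by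
    rw [he j']
    refine IsUnit.of_mul_eq_one_right (ev _ (hl j') r U hU (l j)) ?_
    rw [ev_mul_ev _ r (hl j) (hl j') (hl j) U h2 hU, ev_self]
  have h' := le_of_isUnit_co R φ j j' U h1 hu
  refine ⟨h', hU, fun i => hu.mul_right_cancel ?_⟩
  rw [co_mul_co R φ j j' i U h1 h', he i, he j', ev_mul_ev _ r (hl j) (hl j') (hl i) U h2 hU]

lemma eq_of_isProjOn {φ' : T ⟶ Proj (CohB1.polyGrading n R)}
    (hbase : φ ≫ toBase (CohB1.polyGrading n R) = φ' ≫ toBase (CohB1.polyGrading n R))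
    (h : ∀ x : T, ∃ (j : Fin (n + 1)) (U : T.Opens), x ∈ U ∧
      IsProjOn r l hl φ j U ∧ IsProjOn r l hl φ' j U) : φ = φ' := by
  refine ext_of_co R hbase fun x => ?_
  obtain ⟨j, U, hx, ⟨h1, h2, he⟩, ⟨h1', h2', he'⟩⟩ := h x
  exact ⟨j, U, h1, h1', hx, fun i => (he i).trans (he' i).symm⟩

variable (r l hl)

theorem exists_isProjOn_chart (j : Fin (n + 1))
    (hj : (⊤ : T.Opens) ≤ r ⁻¹ᵁ Proj.basicOpen (CohB1.polyGrading N R) (l j)) :
    ∃ φ : T ⟶ Proj (CohB1.polyGrading n R),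
      φ ≫ toBase (CohB1.polyGrading n R) = r ≫ toBase (CohB1.polyGrading N R) ∧
      IsProjOn r l hl φ j ⊤ := by
  let c : R →+* Γ(T, ⊤) :=
    (r ≫ toBase (CohB1.polyGrading N R)).appTop.hom.comp (Scheme.ΓSpecIso (CommRingCat.of R)).inv.hom
  let ψ : MvPolynomial (Fin (n + 1)) R →+* Γ(T, ⊤) :=
    MvPolynomial.eval₂Hom c fun i => ev (CohB1.polyGrading N R) (hl j) r ⊤ hj (l i)
  have hψ : ψ (MvPolynomial.X j) = 1 := by
    simp only [ψ, MvPolynomial.eval₂Hom_X', ev_self]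
  let φ := chartHom (CohB1.polyGrading n R) (xMem R n j) ψ hψ
  have hφ : (⊤ : T.Opens) ≤ φ ⁻¹ᵁ _ := top_le_preimage_chartHom _ (xMem R n j) ψ hψ
  refine ⟨φ, ?_, hφ, hj, fun i => ?_⟩
  · refine ext_of_isAffine ?_
    rw [← cancel_epi (Scheme.ΓSpecIso (CommRingCat.of R)).inv]
    refine CommRingCat.hom_ext (RingHom.ext fun x => ?_)
    have e := ev_algebraMap (CohB1.polyGrading n R) (xMem R n j) φ ⊤ hφ x
    rw [ev_chartHom, M1.ores_id] at e
    exact e.symm.trans (by simp only [ψ, MvPolynomial.algebraMap_eq, MvPolynomial.eval₂Hom_C]; rfl)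
  · rw [show co R φ j ⊤ hφ i = ψ (MvPolynomial.X i) from ev_chartHom _ (xMem R n j) ψ hψ _]
    exact MvPolynomial.eval₂Hom_X' _ _ _

theorem exists_linProj (hcov : ∀ x : T, ∃ j, x ∈ r ⁻¹ᵁ Proj.basicOpen (CohB1.polyGrading N R) (l j)) :
    ∃ φ : T ⟶ Proj (CohB1.polyGrading n R),
      φ ≫ toBase (CohB1.polyGrading n R) = r ≫ toBase (CohB1.polyGrading N R) ∧
      (∀ j, φ ⁻¹ᵁ Proj.basicOpen (CohB1.polyGrading n R) (MvPolynomial.X j) =
        r ⁻¹ᵁ Proj.basicOpen (CohB1.polyGrading N R) (l j)) ∧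
      ∀ j, IsProjOn r l hl φ j (r ⁻¹ᵁ Proj.basicOpen (CohB1.polyGrading N R) (l j)) := by
  let O : Fin (n + 1) → T.Opens := fun j => r ⁻¹ᵁ Proj.basicOpen (CohB1.polyGrading N R) (l j)
  choose μ hμb hμ using fun j => exists_isProjOn_chart ((O j).ι ≫ r) l hl j (fun x _ => x.2)
  have key : ∀ p q, T.homOfLE (inf_le_left : O p ⊓ O q ≤ O p) ≫ μ p =
      T.homOfLE (inf_le_right : O p ⊓ O q ≤ O q) ≫ μ q := by
    intro p q
    refine eq_of_isProjOn (r := (O p ⊓ O q).ι ≫ r) (l := l) (hl := hl) ?_ fun x => ⟨q, ⊤, trivial, ?_, ?_⟩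
    · simp only [Category.assoc, hμb, Scheme.homOfLE_ι_assoc]
    · have := ((hμ p).comp (T.homOfLE (inf_le_left : O p ⊓ O q ≤ O p)) (V := ⊤) le_top)
      rw [← Category.assoc, Scheme.homOfLE_ι] at this
      exact this.transfer fun y _ => y.2.2
    · have := ((hμ q).comp (T.homOfLE (inf_le_right : O p ⊓ O q ≤ O q)) (V := ⊤) le_top)
      rwa [← Category.assoc, Scheme.homOfLE_ι] at this
  let C := T.openCoverOfIsOpenCover O (IsOpenCover.mk (top_le_iff.1 fun x _ => Opens.mem_iSup.2 (hcov x)))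
  let φ : T ⟶ Proj (CohB1.polyGrading n R) := C.glueMorphisms μ fun p q => by
    refine (cancel_epi (isPullback_opens_inf (O p) (O q)).isoPullback.hom).mp ?_
    change _ ≫ pullback.fst (O p).ι (O q).ι ≫ _ = _ ≫ pullback.snd (O p).ι (O q).ι ≫ _
    rw [IsPullback.isoPullback_hom_fst_assoc, IsPullback.isoPullback_hom_snd_assoc]
    exact key p q
  have hφ : ∀ j, (O j).ι ≫ φ = μ j := fun j => Scheme.Cover.ι_glueMorphisms C μ _ j
  have hP : ∀ j, IsProjOn r l hl φ j (O j) := fun j => by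
    obtain ⟨h1, h2, he⟩ := hμ j
    have hle : O j ≤ φ ⁻¹ᵁ Proj.basicOpen (CohB1.polyGrading n R) (MvPolynomial.X j) := fun y hy => by
      have := h1 (x := ⟨y, hy⟩) trivial
      rwa [← hφ j] at this
    refine ⟨hle, le_rfl, fun i => ?_⟩
    have htop : (⊤ : (O j : Scheme.{u}).Opens) ≤ (O j).ι ⁻¹ᵁ O j := fun y _ => y.2
    have hiso : (O j).ι.appLE (O j) ⊤ htop = (O j).topIso.inv := by
      simp only [Scheme.Opens.topIso, Scheme.Opens.ι_appLE]
      rfl
    apply ((ConcreteCategory.isIso_iff_bijective (O j).topIso.inv).1 inferInstance).1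
    rw [← hiso, ev_comp, ev_comp]
    refine Eq.trans ?_ (he i)
    congr 1
    congr 1
    exact hφ j
  refine ⟨φ, Scheme.Cover.hom_ext C _ _ fun j => ?_, fun j => le_antisymm (fun x hx => ?_) (hP j).1, hP⟩
  · show (O j).ι ≫ _ = (O j).ι ≫ _
    rw [← Category.assoc, hφ, hμb, Category.assoc]
  · obtain ⟨q, hq⟩ := hcov x
    obtain ⟨h1, h2, he⟩ := hP q
    have hb : x ∈ T.basicOpen (co R φ q (O q) h1 j) :=
      (basicOpen_ev (CohB1.polyGrading n R) (xMem R n q) φ (O q) h1 (xMem R n j)).ge ⟨hq, hx⟩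
    rw [he j] at hb
    exact ((basicOpen_ev (CohB1.polyGrading N R) (hl q) r (O q) h2 (hl j)).le hb).2

end Groth.Agent.P1Pow11
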