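import Groth.Agent.Lib.P1Pow11.LinProj
import Groth.Agent.Lib.P1Pow11.Algebra
import Mathlib.AlgebraicGeometry.Morphisms.Proper
import Mathlib.FieldTheory.IsAlgClosed.AlgebraicClosure

/-!
The finite surjective morphism `ℙ¹ × ℙᵐ ⟶ ℙᵐ⁺¹` over `ℤ` given by multiplication of forms.
-/

set_option autoImplicit false

universe u

open CategoryTheory CategoryTheory.Limits AlgebraicGeometry TopologicalSpace

namespace Groth.Agent.P1Pow11

open Groth.Agent.ProjUP Groth.Agent.Segre

/-- The linear forms on the Segre space giving the product of forms. -/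
noncomputable def prodForm (R : Type u) [CommRing R] {m N : ℕ} (σ : Fin (N + 1) ≃ Fin 2 × Fin (m + 1))
    (j : Fin (m + 2)) : MvPolynomial (Fin (N + 1)) R :=
  (Fin.snoc (fun k => MvPolynomial.X (σ.symm (0, k))) 0 : Fin (m + 2) → MvPolynomial (Fin (N + 1)) R) j +
    (Fin.cons 0 (fun k => MvPolynomial.X (σ.symm (1, k))) : Fin (m + 2) → MvPolynomial (Fin (N + 1)) R) j

variable {R : Type u} [CommRing R] {m N : ℕ} (σ : Fin (N + 1) ≃ Fin 2 × Fin (m + 1))

lemma prodForm_mem (j : Fin (m + 2)) : prodForm R σ j ∈ CohB1.polyGrading N R 1 := by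
  refine Submodule.add_mem _ ?_ ?_
  · induction j using Fin.lastCases <;> simp [MvPolynomial.isHomogeneous_X]
  · induction j using Fin.cases <;> simp [MvPolynomial.isHomogeneous_X]

variable {T : Scheme.{u}} {r : T ⟶ Proj (CohB1.polyGrading N R)} {a : T ⟶ Proj (CohB1.polyGrading 1 R)}
  {b : T ⟶ Proj (CohB1.polyGrading m R)}

lemma ev_prodForm {k : Fin (N + 1)} {U : T.Opens}
    (h : U ≤ r ⁻¹ᵁ Proj.basicOpen (CohB1.polyGrading N R) (MvPolynomial.X k))
    (h1 : U ≤ a ⁻¹ᵁ Proj.basicOpen (CohB1.polyGrading 1 R) (MvPolynomial.X (σ k).1))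
    (h2 : U ≤ b ⁻¹ᵁ Proj.basicOpen (CohB1.polyGrading m R) (MvPolynomial.X (σ k).2))
    (he : ∀ l, co R r k U h l = co R a (σ k).1 U h1 (σ l).1 * co R b (σ k).2 U h2 (σ l).2) (j : Fin (m + 2)) :
    ev (CohB1.polyGrading N R) (xMem R N k) r U h (prodForm R σ j) =
      prodCoeff (fun i => co R a (σ k).1 U h1 i) (fun i => co R b (σ k).2 U h2 i) j := by
  rw [prodForm, map_add, prodCoeff]
  congr 1
  · induction j using Fin.lastCases with
    | last => simp
    | cast i =>
      simp only [Fin.snoc_castSucc]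
      exact (he _).trans (by rw [Equiv.apply_symm_apply])
  · induction j using Fin.cases with
    | zero => simp
    | succ i =>
      simp only [Fin.cons_succ]
      exact (he _).trans (by rw [Equiv.apply_symm_apply])

lemma exists_mem_prodForm (hr : ∀ k, IsSeg R 1 m N σ r a b k (dom R 1 m N σ a b k)) (x : T) :
    ∃ j, x ∈ r ⁻¹ᵁ Proj.basicOpen (CohB1.polyGrading N R) (prodForm R σ j) := by
  obtain ⟨k, hk⟩ := exists_mem_dom σ a b x
  obtain ⟨h, h1, h2, he⟩ := hr k
  obtain ⟨j, hj⟩ := prodCoeff_ne_zero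
    (x := fun i => T.evaluation _ x hk (co R a (σ k).1 _ h1 i))
    (v := fun i => T.evaluation _ x hk (co R b (σ k).2 _ h2 i))
    (fun h0 => one_ne_zero (α := T.residueField x) (by simpa [ev_self] using congrFun h0 (σ k).1))
    (fun h0 => one_ne_zero (α := T.residueField x) (by simpa [ev_self] using congrFun h0 (σ k).2))
  refine ⟨j, ?_⟩
  have hne : T.evaluation _ x hk (ev (CohB1.polyGrading N R) (xMem R N k) r _ h (prodForm R σ j)) ≠ 0 := by
    rw [ev_prodForm σ h h1 h2 he j, map_prodCoeff]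
    exact hj
  have := (T.evaluation_ne_zero_iff_mem_basicOpen x hk _).1 hne
  exact ((basicOpen_ev (CohB1.polyGrading N R) (xMem R N k) r _ h (prodForm_mem σ j)).le this).2

omit σ in
lemma exists_normalized {K : Type*} [Field K] [IsAlgClosed K] (c : Fin (m + 2) → K) {k0 : Fin (m + 2)}
    (hc : c k0 ≠ 0) : ∃ (i : Fin 2) (k : Fin (m + 1)) (x : Fin 2 → K) (v : Fin (m + 1) → K) (μ : K),
      x i = 1 ∧ v k = 1 ∧ μ ≠ 0 ∧ ∀ j, prodCoeff x v j = μ * c j := by
  obtain ⟨x, v, h⟩ := exists_prodCoeff_eq c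
  obtain ⟨i, hi⟩ : ∃ i, x i ≠ 0 := by
    by_contra! h0
    exact hc (by rw [← h]; simp [prodCoeff, h0])
  obtain ⟨k, hk⟩ : ∃ k, v k ≠ 0 := by
    by_contra! h0
    refine hc ?_
    rw [← h, prodCoeff]
    have e1 : (Fin.snoc v (0 : K) : Fin (m + 2) → K) k0 = 0 := by
      induction k0 using Fin.lastCases <;> simp [h0]
    have e2 : (Fin.cons (0 : K) v : Fin (m + 2) → K) k0 = 0 := by
      induction k0 using Fin.cases <;> simp [h0]
    rw [e1, e2, mul_zero, mul_zero, add_zero]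
  refine ⟨i, k, fun j => (x i)⁻¹ * x j, fun j => (v k)⁻¹ * v j, (x i)⁻¹ * (v k)⁻¹,
    inv_mul_cancel₀ hi, inv_mul_cancel₀ hk, by simp [hi, hk], fun j => ?_⟩
  rw [← h, prodCoeff, prodCoeff]
  have e1 : (Fin.snoc (fun l => (v k)⁻¹ * v l) (0 : K) : Fin (m + 2) → K) j =
      (v k)⁻¹ * (Fin.snoc v (0 : K) : Fin (m + 2) → K) j := by
    induction j using Fin.lastCases <;> simp
  have e2 : (Fin.cons (0 : K) (fun l => (v k)⁻¹ * v l) : Fin (m + 2) → K) j =
      (v k)⁻¹ * (Fin.cons (0 : K) v : Fin (m + 2) → K) j := by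
    induction j using Fin.cases <;> simp
  rw [e1, e2]
  ring

omit σ in
lemma exists_hom_of_coords {n : ℕ} {K : Type u} [Field K] (x : Fin (n + 1) → K) {i : Fin (n + 1)} (hi : x i = 1) :
    ∃ (a : Spec (CommRingCat.of K) ⟶ Proj (CohB1.polyGrading n (ULift.{u} ℤ)))
      (h : (⊤ : (Spec (CommRingCat.of K)).Opens) ≤ a ⁻¹ᵁ Proj.basicOpen _ (MvPolynomial.X i)),
      ∀ l, co (ULift.{u} ℤ) a i ⊤ h l = (Scheme.ΓSpecIso (CommRingCat.of K)).inv (x l) := by
  let ψ : MvPolynomial (Fin (n + 1)) (ULift.{u} ℤ) →+* Γ(Spec (CommRingCat.of K), ⊤) :=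
    MvPolynomial.eval₂Hom ((Int.castRingHom _).comp ULift.ringEquiv.toRingHom)
      fun l => (Scheme.ΓSpecIso (CommRingCat.of K)).inv (x l)
  have hψ : ψ (MvPolynomial.X i) = 1 := by
    simp only [ψ, MvPolynomial.eval₂Hom_X', hi, map_one]
  exact ⟨_, top_le_preimage_chartHom _ (xMem _ n i) ψ hψ, fun l =>
    (ev_chartHom _ (xMem _ n i) ψ hψ _).trans (MvPolynomial.eval₂Hom_X' _ _ _)⟩

/-- Multiplication of forms `ℙ¹ × ℙᵐ ⟶ ℙᵐ⁺¹` over `ℤ` is finite and surjective. -/
theorem exists_finite_surjective_mul (m : ℕ) :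
    ∃ φ : pullback (CohB1.ProjSpace.toSpec 1 (ULift.{u} ℤ)) (CohB1.ProjSpace.toSpec m (ULift.{u} ℤ)) ⟶
        CohB1.ProjSpace (m + 1) (ULift.{u} ℤ),
      IsFinite φ ∧ Surjective φ := by
  obtain ⟨N, ⟨σ⟩⟩ : ∃ N, Nonempty (Fin (N + 1) ≃ Fin 2 × Fin (m + 1)) :=
    ⟨2 * m + 1, ⟨(finCongr (by ring)).trans finProdFinEquiv.symm⟩⟩
  let R := ULift.{u} ℤ
  let a : pullback (CohB1.ProjSpace.toSpec 1 R) (CohB1.ProjSpace.toSpec m R) ⟶ Proj (CohB1.polyGrading 1 R) :=
    pullback.fst _ _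
  let b : pullback (CohB1.ProjSpace.toSpec 1 R) (CohB1.ProjSpace.toSpec m R) ⟶ Proj (CohB1.polyGrading m R) :=
    pullback.snd (CohB1.ProjSpace.toSpec 1 R) (CohB1.ProjSpace.toSpec m R)
  obtain ⟨r, hrb, hr⟩ := exists_isSeg (R := R) (N := N) σ a b
  obtain ⟨φ, hφb, hφpre, hφ⟩ := exists_linProj r (prodForm R σ) (prodForm_mem σ) (exists_mem_prodForm σ hr)
  have hrcl : IsClosedImmersion r := by
    let r' : pullback (CohB1.ProjSpace.toSpec 1 R) (CohB1.ProjSpace.toSpec m R) ⟶ CohB1.ProjSpace N R := r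
    have : IsProper (r' ≫ CohB1.ProjSpace.toSpec N R) := by
      rw [show r' ≫ CohB1.ProjSpace.toSpec N R = pullback.fst _ _ ≫ CohB1.ProjSpace.toSpec 1 R from hrb]
      infer_instance
    have : IsProper r := IsProper.of_comp r' (CohB1.ProjSpace.toSpec N R)
    have : Mono r := ⟨fun {S} f g hfg => by
      obtain ⟨h1, h2⟩ := eq_of_segre_eq σ r hr f g hfg (specULiftZIsTerminal.hom_ext _ _) (specULiftZIsTerminal.hom_ext _ _)
      exact pullback.hom_ext h1 h2⟩
    exact (IsClosedImmersion.iff_isProper_and_mono r).mpr ⟨inferInstance, inferInstance⟩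
  refine ⟨φ, ?_, ?_⟩
  · let φ' : pullback (CohB1.ProjSpace.toSpec 1 R) (CohB1.ProjSpace.toSpec m R) ⟶ CohB1.ProjSpace (m + 1) R := φ
    have : IsProper (φ' ≫ CohB1.ProjSpace.toSpec (m + 1) R) := by
      rw [show φ' ≫ CohB1.ProjSpace.toSpec (m + 1) R = pullback.fst _ _ ≫ CohB1.ProjSpace.toSpec 1 R from
        specULiftZIsTerminal.hom_ext _ _]
      infer_instance
    refine IsFinite.iff_isProper_and_isAffineHom.2 ⟨IsProper.of_comp φ' (CohB1.ProjSpace.toSpec (m + 1) R), ?_⟩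
    refine isAffineHom_of_forall_exists_isAffineOpen φ fun w => ?_
    obtain ⟨j, hj⟩ := Opens.mem_iSup.1 (show w ∈ ⨆ j, Proj.basicOpen (CohB1.polyGrading (m + 1) R)
      (MvPolynomial.X j) by rw [ProjSpace.iSup_basicOpen]; trivial)
    refine ⟨_, hj, Proj.isAffineOpen_basicOpen _ _ (xMem R (m + 1) j) Nat.one_pos, ?_⟩
    rw [hφpre j]
    exact (Proj.isAffineOpen_basicOpen _ _ (prodForm_mem σ j) Nat.one_pos).preimage r
  · refine ⟨fun y => ?_⟩
    change ↥(Proj (CohB1.polyGrading (m + 1) R)) at y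
    let K := AlgebraicClosure ((Proj (CohB1.polyGrading (m + 1) R)).residueField y)
    let p : Spec (CommRingCat.of K) ⟶ Proj (CohB1.polyGrading (m + 1) R) :=
      Spec.map (CommRingCat.ofHom (algebraMap ((Proj (CohB1.polyGrading (m + 1) R)).residueField y) K)) ≫
        (Proj (CohB1.polyGrading (m + 1) R)).fromSpecResidueField y
    let pt : Spec (CommRingCat.of K) := (⊥ : PrimeSpectrum K)
    have hpt : p pt = y := by
      show (Spec.map _ ≫ Scheme.fromSpecResidueField _ y) pt = y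
      rw [Scheme.Hom.comp_apply]
      exact Scheme.fromSpecResidueField_apply y _
    obtain ⟨k0, hk0⟩ := Opens.mem_iSup.1 (show y ∈ ⨆ j, Proj.basicOpen (CohB1.polyGrading (m + 1) R)
      (MvPolynomial.X j) by rw [ProjSpace.iSup_basicOpen]; trivial)
    have hp : (⊤ : (Spec (CommRingCat.of K)).Opens) ≤ p ⁻¹ᵁ Proj.basicOpen (CohB1.polyGrading (m + 1) R) (MvPolynomial.X k0) := by
      intro z _
      obtain rfl : z = pt := Subsingleton.elim _ _
      have h' : p pt ∈ Proj.basicOpen (CohB1.polyGrading (m + 1) R) (MvPolynomial.X k0) := by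
        rw [hpt]
        exact hk0
      exact h'
    let e := (Scheme.ΓSpecIso (CommRingCat.of K))
    let c : Fin (m + 2) → K := fun j => e.hom (co R (T := Spec (CommRingCat.of K)) p k0 ⊤ hp j)
    have hc0 : c k0 = 1 := by simp only [c, ev_self, map_one]
    obtain ⟨i, k2, x, v, μ, hx, hv, hμ, hF⟩ := exists_normalized c (k0 := k0) (by rw [hc0]; exact one_ne_zero)
    obtain ⟨a', ha', hae⟩ := exists_hom_of_coords x hx
    obtain ⟨b', hb', hbe⟩ := exists_hom_of_coords v hv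
    let z : Spec (CommRingCat.of K) ⟶ pullback (CohB1.ProjSpace.toSpec 1 R) (CohB1.ProjSpace.toSpec m R) :=
      pullback.lift a' b' (specULiftZIsTerminal.hom_ext _ _)
    have hza : z ≫ a = a' := pullback.lift_fst _ _ _
    have hzb : z ≫ b = b' := pullback.lift_snd _ _ _
    let k := σ.symm (i, k2)
    have hσk : σ k = (i, k2) := σ.apply_symm_apply _
    have hdom : (⊤ : (Spec (CommRingCat.of K)).Opens) ≤ z ⁻¹ᵁ dom R 1 m N σ a b k := by
      intro w _
      refine ⟨?_, ?_⟩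
      · have h' : (z ≫ a) w ∈ Proj.basicOpen (CohB1.polyGrading 1 R) (MvPolynomial.X (σ k).1) := by
          rw [hza, hσk]
          exact ha' (x := w) trivial
        exact h'
      · have h' : (z ≫ b) w ∈ Proj.basicOpen (CohB1.polyGrading m R) (MvPolynomial.X (σ k).2) := by
          rw [hzb, hσk]
          exact hb' (x := w) trivial
        exact h'
    obtain ⟨h, h1, h2, he⟩ := (hr k).comp z hdom
    have hval : ∀ j, ev (CohB1.polyGrading N R) (xMem R N k) (z ≫ r) ⊤ h (prodForm R σ j) =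
        e.inv μ * e.inv (c j) := by
      intro j
      rw [ev_prodForm σ h h1 h2 he j, ← map_mul, ← hF j, map_prodCoeff e.inv.hom]
      congr 1
      · funext l
        show _ = e.inv (x l)
        rw [← hae l]
        congr 1 <;> simp [hza, hσk]
      · funext l
        show _ = e.inv (v l)
        rw [← hbe l]
        congr 1 <;> simp [hzb, hσk]
    have hu : IsUnit (ev (CohB1.polyGrading N R) (xMem R N k) (z ≫ r) ⊤ h (prodForm R σ k0)) := by
      rw [hval, hc0, map_one, mul_one]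
      exact (hμ.isUnit).map e.inv.hom
    have hk0' : (⊤ : (Spec (CommRingCat.of K)).Opens) ≤ (z ≫ r) ⁻¹ᵁ Proj.basicOpen (CohB1.polyGrading N R) (prodForm R σ k0) := by
      have hb := basicOpen_ev (CohB1.polyGrading N R) (xMem R N k) (z ≫ r) ⊤ h (prodForm_mem σ k0)
      rw [Scheme.basicOpen_of_isUnit _ hu] at hb
      exact hb.le.trans inf_le_right
    obtain ⟨g1, g2, hg⟩ := (hφ k0).comp z (V := ⊤) hk0'
    have hzp : z ≫ φ = p := by
      refine ext_of_co R (specULiftZIsTerminal.hom_ext _ _) fun w => ⟨k0, ⊤, g1, hp, trivial, fun j => ?_⟩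
      rw [hg j]
      apply hu.mul_right_cancel
      rw [ev_mul_ev _ (z ≫ r) (xMem R N k) (prodForm_mem σ k0) (prodForm_mem σ j) ⊤ h g2, hval, hval, hc0,
        map_one, mul_one, mul_comm]
      congr 1
      simp [c]
    exact ⟨z pt, (congrArg (fun q => q pt) hzp).trans hpt⟩

end Groth.Agent.P1Pow11
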